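import Groth.Agent.S2800
import Groth.Agent.Lib.Constr24.FiniteStrata

/-!
# Partition with finite étale followed by finite radicial flat multisections

`exists_at_point` and `exists_partition_affine` are the construction of `Groth.Agent.S2800`,
keeping finiteness of the radicial part.
-/

set_option autoImplicit false
open CategoryTheory CategoryTheory.Limits AlgebraicGeometry Opposite Topology
universe u

set_option backward.isDefEq.respectTransparency.types false

namespace Groth.Agent.RadPart24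

theorem exists_at_point {X S : Scheme.{u}} (f : X ⟶ S) [LocallyOfFinitePresentation f] (x : X) :
    ∃ (C C' C'' : CommRingCat.{u}) (z : Spec C ⟶ S) (h : Spec C' ⟶ Spec C)
      (g : Spec C'' ⟶ Spec C') (σ : Spec C'' ⟶ X), f x ∈ Set.range z ∧ IsImmersion z ∧
      LocallyOfFinitePresentation z ∧ Etale h ∧ Surjective h ∧ IsAffineHom h ∧
      Flat g ∧ UniversallyInjective g ∧ Surjective g ∧ LocallyOfFinitePresentation g ∧ IsFinite g ∧
      σ ≫ f = g ≫ h ≫ z := by
  classical
  obtain ⟨_, ⟨V, hV, rfl⟩, hyV, -⟩ :=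
    S.isBasis_affineOpens.exists_subset_of_mem_open (Set.mem_univ (f x)) isOpen_univ
  obtain ⟨_, ⟨U, hU, rfl⟩, hxU, hUV⟩ :=
    X.isBasis_affineOpens.exists_subset_of_mem_open (show x ∈ f ⁻¹ᵁ V from hyV) (f ⁻¹ᵁ V).2
  have e : U ≤ f ⁻¹ᵁ V := hUV
  have hφ : (f.appLE V U e).hom.FinitePresentation :=
    HasRingHomProperty.appLE (P := @LocallyOfFinitePresentation) f inferInstance ⟨V, hV⟩ ⟨U, hU⟩ e
  algebraize [(f.appLE V U e).hom]
  let p := (hV.primeIdealOf ⟨f x, hyV⟩).asIdeal
  have hxp : Spec.map (f.appLE V U e) (hU.primeIdealOf ⟨x, hxU⟩) = hV.primeIdealOf ⟨f x, hyV⟩ := by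
    refine hV.fromSpec.isOpenEmbedding.injective ?_
    rw [hV.fromSpec_primeIdealOf, ← Scheme.Hom.comp_apply, hV.SpecMap_appLE_fromSpec f hU e,
      Scheme.Hom.comp_apply, hU.fromSpec_primeIdealOf]
  haveI hne : Nontrivial (p.Fiber Γ(X, U)) :=
    PrimeSpectrum.nonempty_iff_nontrivial.mp
      ⟨PrimeSpectrum.preimageEquivFiber Γ(S, V) Γ(X, U) (hV.primeIdealOf ⟨f x, hyV⟩)
        ⟨hU.primeIdealOf ⟨x, hxU⟩, hxp⟩⟩
  obtain ⟨m, hm⟩ := Ideal.exists_maximal (p.Fiber Γ(X, U))
  haveI := hm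
  letI : Field (p.Fiber Γ(X, U) ⧸ m) := Ideal.Quotient.field m
  haveI : Algebra.FiniteType p.ResidueField (p.Fiber Γ(X, U) ⧸ m) := inferInstance
  haveI : FiniteDimensional p.ResidueField (p.Fiber Γ(X, U) ⧸ m) :=
    finite_of_finite_type_of_isJacobsonRing p.ResidueField _
  let θB : Γ(X, U) →ₐ[Γ(S, V)] (p.Fiber Γ(X, U) ⧸ m) :=
    (Ideal.Quotient.mkₐ Γ(S, V) m).comp Algebra.TensorProduct.includeRight
  obtain ⟨g₀, I, hg₀, hI, hIp, C', i1, i2, C'', i3, i4, het, hff', hfree, hfin, hff'', hinj, σ, hσ⟩ :=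
    RadStrat4.exists_point_model p θB
  let A1 := Localization.Away g₀
  let ρ₁ : Γ(S, V) ⟶ CommRingCat.of A1 := CommRingCat.ofHom (algebraMap _ A1)
  let ρ₂ : CommRingCat.of A1 ⟶ CommRingCat.of (A1 ⧸ I) := CommRingCat.ofHom (Ideal.Quotient.mk I)
  haveI : IsOpenImmersion (Spec.map ρ₁) := IsOpenImmersion.of_isLocalization (S := A1) g₀
  haveI : IsClosedImmersion (Spec.map ρ₂) :=
    IsClosedImmersion.spec_of_surjective ρ₂ Ideal.Quotient.mk_surjective
  haveI : LocallyOfFinitePresentation (Spec.map ρ₂) :=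
    (HasRingHomProperty.Spec_iff (P := @LocallyOfFinitePresentation)).mpr
      (RingHom.FinitePresentation.of_surjective _ Ideal.Quotient.mk_surjective
        (by simp only [ρ₂, CommRingCat.hom_ofHom]; rw [Ideal.mk_ker]; exact hI))
  haveI := hfree
  haveI := hfin
  haveI : Module.FinitePresentation C' C'' := Module.finitePresentation_of_projective _ _
  let hh : CommRingCat.of (A1 ⧸ I) ⟶ CommRingCat.of C' := CommRingCat.ofHom (algebraMap _ C')
  let gg : CommRingCat.of C' ⟶ CommRingCat.of C'' := CommRingCat.ofHom (algebraMap _ C'')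
  refine ⟨CommRingCat.of (A1 ⧸ I), CommRingCat.of C', CommRingCat.of C'',
    Spec.map ρ₂ ≫ Spec.map ρ₁ ≫ hV.fromSpec, Spec.map hh, Spec.map gg,
    Spec.map (CommRingCat.ofHom σ) ≫ hU.fromSpec, ?_,
    MorphismProperty.comp_mem _ _ _ inferInstance inferInstance,
    MorphismProperty.comp_mem _ _ _ inferInstance inferInstance,
    (HasRingHomProperty.Spec_iff (P := @Etale)).mpr (RingHom.etale_algebraMap.mpr het),
    ⟨PrimeSpectrum.comap_surjective_of_faithfullyFlat⟩, inferInstance,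
    (HasRingHomProperty.Spec_iff (P := @Flat)).mpr (RingHom.flat_algebraMap_iff.mpr inferInstance),
    ?_, ⟨PrimeSpectrum.comap_surjective_of_faithfullyFlat⟩,
    (HasRingHomProperty.Spec_iff (P := @LocallyOfFinitePresentation)).mpr
      (RingHom.finitePresentation_algebraMap.mpr inferInstance),
    (IsFinite.SpecMap_iff _).2 (RingHom.finite_algebraMap.2 inferInstance), ?_⟩
  · have hd : Disjoint (Submonoid.powers g₀ : Set Γ(S, V)) p :=
      Set.disjoint_left.mpr fun y ⟨k, hk⟩ hy =>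
        hg₀ (Ideal.IsPrime.mem_of_pow_mem inferInstance k (by simpa [← hk] using hy))
    have hpp := IsLocalization.isPrime_of_isPrime_disjoint (.powers g₀) A1 p inferInstance hd
    have hq : ((p.map (algebraMap _ A1)).map (Ideal.Quotient.mk I)).IsPrime :=
      Ideal.map_isPrime_of_surjective Ideal.Quotient.mk_surjective
        (by rw [Ideal.mk_ker]; exact hIp)
    refine ⟨⟨_, hq⟩, ?_⟩
    have h1 : Spec.map (ρ₁ ≫ ρ₂) ⟨_, hq⟩ = hV.primeIdealOf ⟨f x, hyV⟩ := by
      refine PrimeSpectrum.ext ?_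
      change ((p.map (algebraMap _ A1)).map (Ideal.Quotient.mk I)).comap
        ((Ideal.Quotient.mk I).comp (algebraMap _ A1)) = p
      have e2 : Ideal.comap (algebraMap Γ(S, V) A1) (p.map (algebraMap _ A1)) = p :=
        IsLocalization.comap_map_of_isPrime_disjoint (.powers g₀) A1 inferInstance hd
      rw [← Ideal.comap_comap, Ideal.comap_map_of_surjective _ Ideal.Quotient.mk_surjective,
        ← RingHom.ker_eq_comap_bot, Ideal.mk_ker, sup_eq_left.mpr hIp, e2]
    rw [← Category.assoc, ← Spec.map_comp, Scheme.Hom.comp_apply, h1, hV.fromSpec_primeIdealOf]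
  · refine ((tfae_universallyInjective (Spec.map gg)).out 0 1).mpr fun K iK a b hab => ?_
    obtain ⟨a', rfl⟩ := Spec.map_surjective a
    obtain ⟨b', rfl⟩ := Spec.map_surjective b
    have h1 : gg ≫ a' = gg ≫ b' := Spec.map_injective (by rw [Spec.map_comp, Spec.map_comp]; exact hab)
    congr 1
    exact CommRingCat.hom_ext (@hinj K iK a'.hom b'.hom (congrArg CommRingCat.Hom.hom h1))
  · have hc : f.appLE V U e ≫ CommRingCat.ofHom σ = ρ₁ ≫ ρ₂ ≫ hh ≫ gg :=
      CommRingCat.hom_ext (hσ.trans (by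
        ext a
        rfl))
    rw [Category.assoc, ← hV.SpecMap_appLE_fromSpec f hU e, ← Category.assoc, ← Spec.map_comp, hc]
    simp only [Spec.map_comp, Category.assoc]

theorem exists_partition_affine {X S : Scheme.{u}} (f : X ⟶ S)
    [LocallyOfFinitePresentation f] [Surjective f] [CompactSpace S] [QuasiSeparatedSpace S] :
    ∃ (ι : Type u) (_ : Finite ι) (T : ι → CommRingCat.{u}) (T' T'' : ι → Scheme.{u}) (e : ∀ i, Spec (T i) ⟶ S)
      (h : ∀ i, T' i ⟶ Spec (T i)) (g : ∀ i, T'' i ⟶ T' i) (σ : ∀ i, T'' i ⟶ X),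
      (∀ i, IsImmersion (e i) ∧ QuasiCompact (e i) ∧ LocallyOfFinitePresentation (e i)) ∧
      (∀ i j, i ≠ j → Disjoint (Set.range (e i)) (Set.range (e j))) ∧
      (⋃ i, Set.range (e i)) = Set.univ ∧
      (∀ i, Etale (h i) ∧ Surjective (h i) ∧ IsAffineHom (h i)) ∧
      (∀ i, Flat (g i) ∧ UniversallyInjective (g i) ∧ Surjective (g i) ∧
        LocallyOfFinitePresentation (g i) ∧ IsFinite (g i)) ∧
      (∀ i, σ i ≫ f = g i ≫ h i ≫ e i) := by
  classical
  choose x hx using fun s : S => f.surjective s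
  choose C C' C'' z h g σ hy hz1 hz2 hh1 hh2 hh3 hg1 hg2 hg3 hg4 hg5 hσ using
    fun s : S => exists_at_point f (x s)
  have hcons : ∀ s, Topology.IsConstructible (Set.range (z s)) := fun s => by
    haveI := hz2 s
    rw [← Set.image_univ]
    exact (z s).isConstructible_image Topology.IsConstructible.univ
  obtain ⟨t, ht⟩ := @IsCompact.elim_finite_subcover S (constructibleTopology S) Set.univ S
    (@isCompact_univ S (constructibleTopology S) Groth.Agent.ConsTop3.compactSpace_top)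
    (fun s => Set.range (z s)) (fun s => Groth.Agent.ConsTop3.isOpen_of_isConstructible (hcons s))
    (fun s _ => Set.mem_iUnion.2 ⟨s, by
      obtain ⟨q, hq⟩ := hy s
      exact ⟨q, hq.trans (hx s)⟩⟩)
  let eq := t.equivFin
  let D : t → Set S := fun s => Set.range (z s.1) \ ⋃ s' ∈ ({s' | eq s' < eq s} : Finset t),
    Set.range (z s'.1)
  have hD : ∀ s, Topology.IsConstructible (D s) := fun s =>
    (hcons _).sdiff (Topology.IsConstructible.biUnion (Finset.finite_toSet _) fun s' _ => hcons _)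
  have hW : ∀ s : t, Topology.IsConstructible (z s.1 ⁻¹' D s) := fun s =>
    (z s.1).isConstructible_preimage (hD s)
  choose κ hκ R w hw hwdisj hwcov using fun s : t => S2800.exists_atoms (hW s)
  let ι := Σ s : t, κ s
  let e : ∀ i : ι, Spec (R i.1 i.2) ⟶ S := fun i => w i.1 i.2 ≫ z i.1.1
  have hrange : ∀ i : ι, Set.range (e i) ⊆ D i.1 := by
    rintro i _ ⟨q, rfl⟩
    have h1 : w i.1 i.2 q ∈ z i.1.1 ⁻¹' D i.1 := by
      rw [← hwcov i.1]; exact Set.mem_iUnion.2 ⟨i.2, q, rfl⟩
    exact h1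
  haveI := fun i : ι => (hw i.1 i.2).1
  haveI := fun i : ι => (hw i.1 i.2).2
  haveI := hh1; haveI := hh2; haveI := hh3; haveI := hg1; haveI := hg2; haveI := hg3
  haveI := hg4; haveI := hg5
  refine ⟨ι, inferInstance, fun i => R i.1 i.2, fun i => pullback (h i.1.1) (w i.1 i.2),
    fun i => pullback (g i.1.1) (pullback.fst (h i.1.1) (w i.1 i.2)), e,
    fun i => pullback.snd _ _, fun i => pullback.snd _ _, fun i => pullback.fst _ _ ≫ σ i.1.1,
    fun i => ⟨?_, inferInstance, ?_⟩, fun i j hij => ?_, ?_,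
    fun i => ⟨inferInstance, inferInstance, inferInstance⟩,
    fun i => ⟨inferInstance, MorphismProperty.pullback_snd _ _ (hg2 _), inferInstance, inferInstance, inferInstance⟩,
    fun i => ?_⟩
  · haveI := hz1 i.1.1; exact MorphismProperty.comp_mem _ _ _ inferInstance inferInstance
  · haveI := hz2 i.1.1; exact MorphismProperty.comp_mem _ _ _ inferInstance inferInstance
  · obtain ⟨s, k⟩ := i
    obtain ⟨s', k'⟩ := j
    by_cases hs : s = s'
    · subst hs
      rw [Set.disjoint_left]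
      rintro _ ⟨q, rfl⟩ ⟨q', hq'⟩
      have hne : k ≠ k' := fun hk => hij (by rw [hk])
      haveI := hz1 s.1
      have h2 : w s k' q' = w s k q := (z s.1).isEmbedding.injective hq'
      exact Set.disjoint_left.1 (hwdisj s k k' hne) ⟨q, rfl⟩ ⟨q', h2⟩
    · refine Set.disjoint_left.2 fun a ha hb => ?_
      have h1 := hrange ⟨s, k⟩ ha
      have h2 := hrange ⟨s', k'⟩ hb
      rcases lt_or_gt_of_ne (fun h => hs (eq.injective h)) with hlt | hlt
      · exact h2.2 (Set.mem_iUnion₂.2 ⟨s, by simpa using hlt, h1.1⟩)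
      · exact h1.2 (Set.mem_iUnion₂.2 ⟨s', by simpa using hlt, h2.1⟩)
  · refine Set.eq_univ_of_forall fun a => ?_
    obtain ⟨s0, hs0, ha0⟩ := Set.mem_iUnion₂.1 (ht (Set.mem_univ a))
    obtain ⟨s, hs, hmin⟩ := Finset.exists_min_image ({s : t | a ∈ Set.range (z s.1)} : Finset t) eq
      ⟨⟨s0, hs0⟩, by simpa using ha0⟩
    have haD : a ∈ D s := by
      refine ⟨by simpa using hs, fun hmem => ?_⟩
      obtain ⟨s', hs', ha'⟩ := Set.mem_iUnion₂.1 hmem
      exact not_lt.2 (hmin s' (by simpa using ha')) (by simpa using hs')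
    obtain ⟨q, rfl⟩ := haD.1
    obtain ⟨k, r, hr⟩ := Set.mem_iUnion.1 ((hwcov s).symm.subset (show q ∈ z s.1 ⁻¹' D s from haD))
    exact Set.mem_iUnion.2 ⟨⟨s, k⟩, r, by
      change (w s k ≫ z s.1) r = _
      rw [Scheme.Hom.comp_apply, hr]⟩
  · rw [Category.assoc, hσ, pullback.condition_assoc, pullback.condition_assoc]


/-- A separated quasi-compact étale morphism to an affine scheme is finite over the pieces of a
partition into subschemes of finite presentation. -/
theorem exists_strata_finite_fp {R : Type u} [CommRing R] {X : Scheme.{u}}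
    (j : X ⟶ Spec (CommRingCat.of R)) [Etale j] [IsSeparated j] [QuasiCompact j] :
    ∃ (κ : Type u) (_ : Finite κ) (C : κ → CommRingCat.{u}) (c : ∀ k, Spec (C k) ⟶ Spec (CommRingCat.of R)),
      (∀ k, IsImmersion (c k) ∧ LocallyOfFinitePresentation (c k)) ∧
      Pairwise (fun k l => Disjoint (Set.range (c k)) (Set.range (c l))) ∧
      (⋃ k, Set.range (c k)) = Set.univ ∧ ∀ k, IsFinite (pullback.snd j (c k)) := by
  classical
  haveI : LocallyQuasiFinite j := FiniteSplit.locallyQuasiFinite_of_etale j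
  have hfin : ∀ y, IsFinite (j.fiberToSpecResidueField y) := fun y =>
    DegRank.isFinite_fiber_of_finite j y (j.finite_preimage_singleton y)
  let E : ℕ → Set (PrimeSpectrum R) := fun r => {s | AlgSpDecent.DegStrat.deg j s = r}
  have hE : ∀ r, Topology.IsConstructible (E r) := fun r =>
    (Constr24.isLocallyConstructible_deg_eq j r).isConstructible
  obtain ⟨t, ht⟩ := Constr24.exists_finite_subcover E hE (Set.eq_univ_of_forall fun s =>
    Set.mem_iUnion.2 ⟨_, rfl⟩)
  choose κ hκ C c hc hcd hcu using fun r => S2800.exists_atoms (hE r)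
  refine ⟨Σ r : t, κ r.1, inferInstance, fun p => C _ p.2, fun p => c _ p.2, fun p => hc _ p.2, ?_, ?_,
    fun p => ?_⟩
  · rintro ⟨r, i⟩ ⟨r', i'⟩ hne
    by_cases hr : r = r'
    · subst hr
      exact hcd _ i i' fun h => hne (by rw [h])
    · refine Set.disjoint_left.2 fun x hx hx' => hr (Subtype.ext ?_)
      have h1 : ∀ r i, Set.range (c r i) ⊆ E r := fun r i => by
        rw [← hcu r]; exact Set.subset_iUnion (fun i => Set.range (c r i)) i
      exact (h1 _ _ hx).symm.trans (h1 _ _ hx')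
  · refine Set.eq_univ_of_forall fun s => ?_
    obtain ⟨r, hr, hs⟩ := Set.mem_iUnion₂.1 (ht.ge (Set.mem_univ s))
    obtain ⟨i, hi⟩ := Set.mem_iUnion.1 ((hcu r).ge hs)
    exact Set.mem_iUnion.2 ⟨⟨⟨r, hr⟩, i⟩, hi⟩
  · refine ((DegRank.isFinLocFreeOfDeg_iff j hfin (c _ p.2) p.1.1).2 fun z => ?_).1.1
    have := Set.subset_iUnion (fun i => Set.range (c p.1.1 i)) p.2 ⟨z, rfl⟩
    rwa [hcu] at this

theorem exists_partition {X Y : Scheme.{u}} (f : X ⟶ Y) [Surjective f]
    [LocallyOfFinitePresentation f] [CompactSpace Y] [QuasiSeparatedSpace Y] :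
    ∃ (m : ℕ) (T T' T'' : Fin m → Scheme.{u}) (e : ∀ i, T i ⟶ Y) (hh : ∀ i, T' i ⟶ T i)
      (gg : ∀ i, T'' i ⟶ T' i) (s : ∀ i, T'' i ⟶ X),
      (∀ i, IsImmersion (e i) ∧ LocallyOfFinitePresentation (e i) ∧ QuasiCompact (e i)) ∧
      Pairwise (fun i j => Disjoint (Set.range (e i)) (Set.range (e j))) ∧
      (⋃ i, Set.range (e i)) = Set.univ ∧
      (∀ i, IsFinite (hh i) ∧ Surjective (hh i) ∧ Etale (hh i)) ∧
      (∀ i, IsFinite (gg i) ∧ Surjective (gg i) ∧ Flat (gg i) ∧ LocallyOfFinitePresentation (gg i) ∧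
        UniversallyInjective (gg i)) ∧
      ∀ i, s i ≫ f = gg i ≫ hh i ≫ e i := by
  classical
  obtain ⟨ι, _, T, T', T'', e, h, g, σ, he, hdisj, hcov, hh, hg, hσ⟩ := exists_partition_affine f
  have hsep : ∀ i, IsSeparated (h i) := fun i => by haveI := (hh i).2.2; infer_instance
  choose κ hκ C c hc hcd hcu hcf using fun i =>
    haveI := (hh i).1; haveI := (hh i).2.2; haveI := hsep i
    exists_strata_finite_fp (R := T i) (h i)
  let J := Σ i, κ i
  let eJ : Fin (Nat.card J) ≃ J := (Finite.equivFin J).symm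
  refine ⟨Nat.card J, fun a => Spec (C _ (eJ a).2), fun a => pullback (h (eJ a).1) (c _ (eJ a).2),
    fun a => pullback (g (eJ a).1) (pullback.fst (h (eJ a).1) (c _ (eJ a).2)),
    fun a => c _ (eJ a).2 ≫ e (eJ a).1, fun a => pullback.snd _ _, fun a => pullback.snd _ _,
    fun a => pullback.fst _ _ ≫ σ (eJ a).1, fun a => ?_, ?_, ?_, fun a => ?_, fun a => ?_, fun a => ?_⟩
  · obtain ⟨h1, h2⟩ := hc _ (eJ a).2
    obtain ⟨h3, h4, h5⟩ := he (eJ a).1
    exact ⟨MorphismProperty.comp_mem _ _ _ h1 h3, MorphismProperty.comp_mem _ _ _ h2 h5,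
      MorphismProperty.comp_mem _ _ _ inferInstance h4⟩
  · have key : ∀ p q : J, p ≠ q → Disjoint (Set.range (c p.1 p.2 ≫ e p.1)) (Set.range (c q.1 q.2 ≫ e q.1)) := by
      rintro ⟨i, k⟩ ⟨i', k'⟩ hne
      show Disjoint (Set.range (e i ∘ c i k)) (Set.range (e i' ∘ c i' k'))
      rw [Set.range_comp, Set.range_comp]
      by_cases hi : i = i'
      · subst hi
        haveI := (he i).1
        exact Set.disjoint_image_of_injective (e i).isEmbedding.injective
          (hcd i fun hk => hne (by rw [hk]))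
      · exact (hdisj i i' hi).mono (Set.image_subset_range _ _) (Set.image_subset_range _ _)
    exact fun a b hab => key _ _ fun hh' => hab (eJ.injective hh')
  · refine (eJ.surjective.iUnion_comp fun p : J => Set.range (c p.1 p.2 ≫ e p.1)).trans ?_
    refine Set.eq_univ_of_forall fun y => ?_
    obtain ⟨i, t, rfl⟩ := Set.mem_iUnion.1 (hcov.ge (Set.mem_univ y))
    obtain ⟨k, w, rfl⟩ := Set.mem_iUnion.1 ((hcu i).ge (Set.mem_univ t))
    exact Set.mem_iUnion.2 ⟨⟨i, k⟩, w, Scheme.Hom.comp_apply _ _ _⟩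
  · obtain ⟨h1, h2, -⟩ := hh (eJ a).1
    exact ⟨hcf _ _, MorphismProperty.pullback_snd _ _ h2, MorphismProperty.pullback_snd _ _ h1⟩
  · obtain ⟨h1, h2, h3, h4, h5⟩ := hg (eJ a).1
    exact ⟨MorphismProperty.pullback_snd _ _ h5, MorphismProperty.pullback_snd _ _ h3,
      MorphismProperty.pullback_snd _ _ h1, MorphismProperty.pullback_snd _ _ h4,
      MorphismProperty.pullback_snd _ _ h2⟩
  · rw [Category.assoc, hσ, pullback.condition_assoc, pullback.condition_assoc]

end Groth.Agent.RadPart24
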